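import Cfsg.Agent.XS.Res
import Cfsg.Agent.H10.P3Ext

/-! Characteristic two: the parity matrix is isolated in its centraliser. -/

set_option autoImplicit false
set_option linter.unusedSectionVars false

namespace Cfsg.Agent.XS

open Cfsg Cfsg.Geo Cfsg.Agent.H98 Cfsg.Agent.H99 Matrix
open Cfsg.Agent.N9 (pm dg On pm_apply dg_apply coe_dg pm_dg conj_pm mul_pm_apply pm_mul_apply dg_const)

variable {F : Type*} [Field F] [Fintype F] {ι : Type} [Fintype ι] [DecidableEq ι] {p : ℕ} {ζ : Fˣ}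
  {w g : GL I F} {G : Subgroup (GL I F)} {e : ι → I} {v : GL ι F} {Γ K Q P : Subgroup (GL ι F)}

namespace QInv

open Cfsg.Agent.H10.P3 (vv_mul vv_mulVec vv_eq_zero exists_vv_of_sq)

/-- two involutions are conjugate or commute with a common involution -/
theorem dih {X : Type*} [Group X] [Finite X] {a b : X} (ha : a * a = 1) (hb : b * b = 1) :
    (∃ m : ℕ, ((a * b) ^ m)⁻¹ * a * (a * b) ^ m = b) ∨
      ∃ u : X, u ≠ 1 ∧ u * u = 1 ∧ u * a = a * u ∧ u * b = b * u := by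
  have ai := inv_eq_of_mul_eq_one_right ha
  have bi := inv_eq_of_mul_eq_one_right hb
  have e1 : ∀ m : ℕ, ((a * b) ^ m)⁻¹ * a = a * (a * b) ^ m := fun m => by
    rw [← inv_pow, _root_.mul_inv_rev, ai, bi,
      show b * a = a * (a * b) * a⁻¹ by rw [← mul_assoc, ha, one_mul, ai], conj_pow, inv_mul_cancel_right]
  rcases Nat.even_or_odd' (orderOf (a * b)) with ⟨m, hm | hm⟩
  · right
    have h0 := orderOf_pos (a * b)
    have h1 : (a * b) ^ m * (a * b) ^ m = 1 := by rw [← pow_add, ← two_mul, ← hm, pow_orderOf_eq_one]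
    have h2 : (a * b) ^ m * a = a * (a * b) ^ m := by rw [← e1, inv_eq_of_mul_eq_one_right h1]
    refine ⟨_, pow_ne_one_of_lt_orderOf (by omega) (by omega), h1, h2, ?_⟩
    have h3 : Commute ((a * b) ^ m) (a * (a * b)) := Commute.mul_right h2 (Commute.pow_self _ m)
    rwa [← mul_assoc, ha, one_mul] at h3
  · refine Or.inl ⟨m + 1, ?_⟩
    rw [e1, mul_assoc, ← pow_add, show m + 1 + (m + 1) = 2 * m + 1 + 1 by ring, pow_succ, ← hm,
      pow_orderOf_eq_one, one_mul, ← mul_assoc, ha, one_mul]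

theorem sq0 (h2 : (2 : F) = 0) {γ : GL (Fin 3) F} (h : γ * γ = 1) :
    ∃ x ψ : Fin 3 → F, (γ : Matrix (Fin 3) (Fin 3) F) = 1 + vecMulVec x ψ ∧ ψ ⬝ᵥ x = 0 := by
  obtain ⟨x, ψ, e, e'⟩ := exists_vv_of_sq (N := (γ : Matrix (Fin 3) (Fin 3) F) - 1) (by
    have h1 : (γ : Matrix (Fin 3) (Fin 3) F) * γ = 1 := by rw [← Units.val_mul, h, Units.val_one]
    rw [sub_mul, mul_sub, h1, Matrix.mul_one, Matrix.one_mul,
      show (1 : Matrix (Fin 3) (Fin 3) F) - γ - (γ - 1) = (2 : F) • (1 - γ) by rw [two_smul]; abel, h2,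
      zero_smul])
  exact ⟨x, ψ, by rw [← e, add_sub_cancel], e'⟩

theorem comm0 {x χ y ψ : Fin 3 → F} (h : (1 + vecMulVec x χ) * (1 + vecMulVec y ψ) =
    (1 + vecMulVec y ψ) * (1 + vecMulVec x χ)) (h1 : ψ ⬝ᵥ y = 0) (hx : x ≠ 0) (hχ : χ ≠ 0) (hy : y ≠ 0)
    (hψ : ψ ≠ 0) : χ ⬝ᵥ y = 0 ∧ ψ ⬝ᵥ x = 0 := by
  have e : (χ ⬝ᵥ y) • vecMulVec x ψ = (ψ ⬝ᵥ x) • vecMulVec y χ := by
    rw [← vv_mul, ← vv_mul]
    simp only [add_mul, mul_add, Matrix.one_mul, Matrix.mul_one] at h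
    linear_combination (norm := abel1) h
  have e2 := congrArg (· *ᵥ y) e
  simp only [smul_mulVec, vv_mulVec, h1, zero_smul, smul_zero, smul_smul] at e2
  rcases mul_eq_zero.1 ((smul_eq_zero.1 e2.symm).resolve_right hy) with a | a
  · rw [a, zero_smul] at e
    exact ⟨(smul_eq_zero.1 e).resolve_right fun b => (vv_eq_zero b).elim hx hψ, a⟩
  · rw [a, zero_smul] at e
    exact ⟨a, (smul_eq_zero.1 e.symm).resolve_right fun b => (vv_eq_zero b).elim hy hχ⟩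

theorem indep {x χ y ψ y' ψ' : Fin 3 → F} (hx : x ≠ 0) (hχ : χ ≠ 0) (a1 : ψ ⬝ᵥ x = 0) (a2 : ψ' ⬝ᵥ x = 0)
    (a3 : χ ⬝ᵥ x = 0) (b1 : ψ ⬝ᵥ y = 0) (b2 : ψ' ⬝ᵥ y ≠ 0) (b3 : χ ⬝ᵥ y = 0) (c1 : ψ ⬝ᵥ y' ≠ 0)
    (c2 : ψ' ⬝ᵥ y' = 0) (c3 : χ ⬝ᵥ y' = 0) : False := by
  have hd : (of ![ψ, ψ', χ]).det = 0 := exists_mulVec_eq_zero_iff.1 ⟨x, hx, by
    ext i; fin_cases i
    · exact a1
    · exact a2
    · exact a3⟩
  obtain ⟨c, c0, hc⟩ := exists_vecMul_eq_zero_iff.2 hd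
  have e : c 0 • ψ + c 1 • ψ' + c 2 • χ = 0 := by
    rw [← hc]; ext i; simp [vecMul, dotProduct, Fin.sum_univ_three]
  have e1 := congrArg (· ⬝ᵥ y) e
  have e2 := congrArg (· ⬝ᵥ y') e
  simp only [add_dotProduct, smul_dotProduct, b1, b3, c2, c3, smul_eq_mul, mul_zero, zero_add, add_zero,
    zero_dotProduct, mul_eq_zero, b2, c1, or_false] at e1 e2
  rw [e1, e2, zero_smul, zero_smul, zero_add, zero_add] at e
  refine c0 (funext fun i => ?_)
  fin_cases i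
  · exact e2
  · exact e1
  · exact (smul_eq_zero.1 e).resolve_right hχ

theorem diff : ∀ s0 r0 s r : Fin 3, s0 ≠ r0 → (em s - em r - (em s0 - em r0) = 0 ↔ r = r0 ∧ s = s0) := by
  decide

theorem exists_k (h : Fe F p ζ) {x ψ x0 ψ0 : Fin 3 → F} (hx : x ≠ 0) (hψ : ψ ≠ 0) (h0 : ψ ⬝ᵥ x = 0)
    (hx0 : ∀ s, x0 s ≠ 0) (hψ0 : ∀ s, ψ0 s ≠ 0) : ∃ k : I,
      (ψ ⬝ᵥ fun s => (ze ζ (k * em s) : F) * x0 s) * ((fun r => ψ0 r * (ze ζ (-(k * em r)) : F)) ⬝ᵥ x) ≠ 0 := by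
  by_contra! hc
  have key : ∀ s0 r0 : Fin 3, s0 ≠ r0 → ψ s0 * x r0 = 0 := fun s0 r0 hne => by
    have e : ∑ k : I, (ze ζ (-(k * (em s0 - em r0))) : F) * ((ψ ⬝ᵥ fun s => (ze ζ (k * em s) : F) * x0 s) *
        ((fun r => ψ0 r * (ze ζ (-(k * em r)) : F)) ⬝ᵥ x)) = 0 := by simp [hc]
    have e2 : ∀ k : I, (ze ζ (-(k * (em s0 - em r0))) : F) * ((ψ ⬝ᵥ fun s => (ze ζ (k * em s) : F) * x0 s) *
        ((fun r => ψ0 r * (ze ζ (-(k * em r)) : F)) ⬝ᵥ x)) = ∑ s, ∑ r, ψ s * x0 s * (ψ0 r * x r) *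
          (ze ζ (k * (em s - em r - (em s0 - em r0))) : F) := fun k => by
      rw [dotProduct, dotProduct, Finset.sum_mul_sum]
      simp only [Finset.mul_sum]
      refine Finset.sum_congr rfl fun s _ => Finset.sum_congr rfl fun r _ => ?_
      rw [show k * (em s - em r - (em s0 - em r0)) = k * em s + -(k * em r) + -(k * (em s0 - em r0)) by ring,
        h.ze_add, h.ze_add, Units.val_mul, Units.val_mul]
      ring
    simp only [e2] at e
    rw [Finset.sum_comm] at e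
    simp only [Finset.sum_comm (s := (Finset.univ : Finset I)), ← Finset.mul_sum, h.sum_ze, diff s0 r0 _ _ hne,
      ite_and, mul_ite, mul_zero, Finset.sum_ite_eq', Finset.mem_univ, if_true] at e
    simp only [mul_eq_zero, hx0, hψ0, h.seven_ne, or_false, false_or] at e ⊢
    exact e
  obtain ⟨s0, hs⟩ := Function.ne_iff.1 hψ
  obtain ⟨r0, hr⟩ := Function.ne_iff.1 hx
  obtain rfl : s0 = r0 := by
    by_contra n
    exact mul_ne_zero hs hr (key _ _ n)
  rw [dotProduct, Finset.sum_eq_single s0 (fun s _ n => by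
    rw [(mul_eq_zero.1 (key s s0 n)).resolve_right hr, zero_mul]) (by simp)] at h0
  exact mul_ne_zero hs hr h0

theorem c_mul (h2 : (2 : F) = 0) {a b : GL I F} (ha : a * jj F = jj F * a) (hb : b * jj F = jj F * b) :
    ((a * b : GL I F) : Matrix I I F) 0 0 = (a : Matrix I I F) 0 0 * (b : Matrix I I F) 0 0 := by
  have a1 : ∀ s, (a : Matrix I I F) 0 (-s) * (b : Matrix I I F) (-s) 0 =
      (a : Matrix I I F) 0 s * (b : Matrix I I F) s 0 := fun s => by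
    rw [← comm_jj.1 ha 0 s, ← comm_jj.1 hb s 0, neg_zero]
  rw [Units.val_mul, Matrix.mul_apply, show (Finset.univ : Finset I) = {0, 1, 2, 3, -1, -2, -3} by decide]
  rw [Finset.sum_insert (by decide), Finset.sum_insert (by decide), Finset.sum_insert (by decide),
    Finset.sum_insert (by decide), Finset.sum_insert (by decide), Finset.sum_insert (by decide),
    Finset.sum_singleton, a1, a1, a1]
  linear_combination ((a : Matrix I I F) 0 1 * (b : Matrix I I F) 1 0 + (a : Matrix I I F) 0 2 *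
    (b : Matrix I I F) 2 0 + (a : Matrix I I F) 0 3 * (b : Matrix I I F) 3 0) * h2

theorem c_one (h2 : (2 : F) = 0) {a : GL I F} (ha : a * jj F = jj F * a) (h : a * a = 1 ∨ a * a = jj F) :
    (a : Matrix I I F) 0 0 = 1 := by
  have e := c_mul h2 ha ha
  have e1 : ((a * a : GL I F) : Matrix I I F) 0 0 = 1 := by
    rcases h with h | h <;> rw [h]
    · simp
    · simp [jj_apply]
  rw [e1] at e
  refine sub_eq_zero.1 (pow_eq_zero_iff two_ne_zero |>.1 ?_)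
  linear_combination -e + (1 - (a : Matrix I I F) 0 0) * h2

end QInv

open QInv in
theorem Ce.inv2 (h : Ce p ζ w G) (h2 : (2 : F) = 0)
    (k0 : ∀ g ∈ G, g * jj F = jj F * g → On (Jm F) g 1 → (g : Matrix I I F) 0 0 = 1 → g = 1 ∨ g = jj F) :
    ∀ g ∈ G, g * jj F * g⁻¹ * jj F = jj F * (g * jj F * g⁻¹) → g * jj F = jj F * g := by
  intro g hg yc
  have j1 : jj F ≠ 1 := fun e => jj_notMem (e ▸ one_mem _)
  have yG : g * jj F * g⁻¹ ∈ G := mul_mem (mul_mem hg h.j) (inv_mem hg)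
  have y2 : g * jj F * g⁻¹ * (g * jj F * g⁻¹) = 1 := by rw [conj_mul, jj_jj, mul_one, mul_inv_cancel]
  have y1 : g * jj F * g⁻¹ ≠ 1 := fun e => j1 (conj_eq_one_iff.1 e)
  rw [← mul_inv_eq_iff_eq_mul]
  generalize g * jj F * g⁻¹ = y at yc yG y2 y1
  obtain ⟨γ, o⟩ := exists_m yc
  have γ2 : γ * γ = 1 := On.unique Km_Jm (o.mul o) (y2 ▸ On.one)
  by_cases γ1 : γ = 1
  · exact (k0 y yG yc (γ1 ▸ o) (c_one h2 yc (Or.inl y2))).resolve_left y1
  exfalso
  obtain ⟨x, ψ, e, e0⟩ := sq0 h2 γ2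
  have n0 : ∀ {δ : GL (Fin 3) F} {x ψ : Fin 3 → F}, δ ≠ 1 → (δ : Matrix (Fin 3) (Fin 3) F) = 1 + vecMulVec x ψ →
      x ≠ 0 ∧ ψ ≠ 0 := fun n e => ⟨fun c => n (Units.ext (by simpa [c] using e)),
        fun c => n (Units.ext (by simpa [c] using e))⟩
  obtain ⟨x1, ψ1⟩ := n0 γ1 e
  have ww : w * w = jj F := by
    rw [h.ww, show Units.mk0 (7 : F) h.seven_ne = 1 from Units.ext (by
      rw [Units.val_mk0, Units.val_one]; linear_combination 3 * h2), scal_one, one_mul]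
  obtain ⟨γ0, o0⟩ := exists_m h.w_jj
  have oj : On (Jm F) (jj F) 1 := by
    have := on_j_m (F := F)
    rwa [show (-1 : Fˣ) = 1 from Units.ext (by
      rw [Units.val_neg, Units.val_one]; linear_combination -h2), scal_one] at this
  obtain ⟨x0, ψ0, f, f0⟩ := sq0 h2 (On.unique Km_Jm (o0.mul o0) (ww ▸ oj))
  have ne : ∀ s r, s ≠ r → x0 s * ψ0 r ≠ 0 := fun s r n c => by
    have := on_m_apply o0 s r
    rw [f, Matrix.add_apply, one_apply_ne n, vecMulVec_apply, c, h.hw, wM, of_apply, of_apply, add_zero,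
      eq_comm, sub_eq_zero] at this
    exact Res.sm_mul s r (h.ze_inj (Units.ext this))
  have hx0 : ∀ s, x0 s ≠ 0 := fun s => let ⟨r, n⟩ := exists_ne s; left_ne_zero_of_mul (ne s r n.symm)
  have hψ0 : ∀ s, ψ0 s ≠ 0 := fun s => let ⟨r, n⟩ := exists_ne s; right_ne_zero_of_mul (ne r s n)
  obtain ⟨k, hk⟩ := exists_k h.toFe x1 ψ1 e0 hx0 hψ0
  set a := aa ζ ^ k.val with ha
  have ac : Commute a (jj F) := Commute.pow_left (aa_jj ζ) _
  have oa : On (Jm F) a (dg fun s => ze ζ (k * em s)) := by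
    have := (on_a_m (ζ := ζ)).pow k.val
    rw [ad, ← map_pow] at this
    convert this using 2
    funext s
    rw [Pi.pow_apply, h.ze_pow, ZMod.natCast_zmod_val]
  set u := a * w * a⁻¹ with hu
  have uG : u ∈ G := mul_mem (mul_mem (pow_mem h.a _) h.wm) (inv_mem (pow_mem h.a _))
  have uc : Commute u (jj F) := (ac.mul_left h.w_jj).mul_left ac.inv_left
  have uu : u * u = jj F := by rw [hu, conj_mul, ww, ac.eq, mul_inv_cancel_right]
  have ou := (oa.mul o0).mul oa.inv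
  set δ := dg (fun s => ze ζ (k * em s)) * γ0 * (dg fun s => ze ζ (k * em s))⁻¹ with hδ
  have δ2 : δ * δ = 1 := On.unique Km_Jm (ou.mul ou) (uu ▸ oj)
  have eδ : (δ : Matrix (Fin 3) (Fin 3) F) = 1 + vecMulVec (fun s => (ze ζ (k * em s) : F) * x0 s)
      fun r => ψ0 r * (ze ζ (-(k * em r)) : F) := by
    ext s r
    rw [hδ, ← map_inv, mul_dg_apply, dg_mul_apply, f, Matrix.add_apply, Matrix.add_apply, vecMulVec_apply,
      vecMulVec_apply, h.ze_neg, Pi.inv_apply]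
    by_cases c : s = r
    · subst c
      rw [one_apply_eq, mul_add, add_mul, mul_one, Units.mul_inv]; ring
    · rw [one_apply_ne c]; ring
  have eδ0 : (fun r => ψ0 r * (ze ζ (-(k * em r)) : F)) ⬝ᵥ (fun s => (ze ζ (k * em s) : F) * x0 s) = 0 := by
    rw [← f0]
    refine Finset.sum_congr rfl fun s _ => ?_
    beta_reduce
    rw [h.ze_neg, mul_assoc, ← mul_assoc _ _ (x0 s), Units.inv_mul, one_mul]
  clear_value δ
  rcases dih γ2 δ2 with ⟨m, hm⟩ | ⟨t, t1, t2, t3, t4⟩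
  · have oz := (o.mul ou).pow m
    have zc : Commute ((y * u) ^ m) (jj F) := (Commute.mul_left yc uc).pow_left m
    have zG : (y * u) ^ m ∈ G := pow_mem (mul_mem yG uG) m
    have o1 := (oz.inv.mul o).mul oz
    rw [hm] at o1
    generalize (y * u) ^ m = z at zc zG o1
    have c1 : Commute (z⁻¹ * y * z) (jj F) := (zc.inv_left.mul_left yc).mul_left zc
    have s1 : z⁻¹ * y * z * (z⁻¹ * y * z) = 1 := by
      rw [show z⁻¹ * y * z * (z⁻¹ * y * z) = z⁻¹ * (y * y) * z by group, y2, mul_one, inv_mul_cancel]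
    have o2 := o1.mul ou.inv
    rw [mul_inv_cancel] at o2
    rcases k0 _ (mul_mem (mul_mem (mul_mem (inv_mem zG) yG) zG) (inv_mem uG)) (c1.mul_left uc.inv_left) o2 (by
      rw [c_mul h2 c1 uc.inv_left, c_one h2 c1 (Or.inl s1), c_one h2 uc.inv_left (Or.inr (by
        rw [← _root_.mul_inv_rev, uu, jj_inv])), mul_one]) with q | q
    · rw [mul_inv_eq_one.1 q, uu] at s1
      exact j1 s1
    · rw [mul_inv_eq_iff_eq_mul.1 q, mul_assoc, ← mul_assoc u, uc.eq, mul_assoc, uu, jj_jj, mul_one] at s1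
      exact j1 s1
  · obtain ⟨b, χ, q, q0⟩ := sq0 h2 t2
    obtain ⟨b1, χ1⟩ := n0 t1 q
    have hk1 := left_ne_zero_of_mul hk
    have hk2 := right_ne_zero_of_mul hk
    have r1 := congrArg Units.val t3
    have r2 := congrArg Units.val t4
    rw [Units.val_mul, Units.val_mul, q] at r1 r2
    rw [e] at r1
    rw [eδ] at r2
    obtain ⟨a1, a2⟩ := comm0 r1 e0 b1 χ1 x1 ψ1
    obtain ⟨a3, a4⟩ := comm0 r2 eδ0 b1 χ1 (fun c => hk1 (by rw [c, dotProduct_zero]))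
      fun c => hk2 (by rw [c, zero_dotProduct])
    exact indep b1 χ1 a2 a4 q0 e0 hk2 a1 hk1 eδ0 a3

end Cfsg.Agent.XS
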