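import Cfsg.Agent.XS.Iso
import Cfsg.Agent.XS.Zst

set_option autoImplicit false
set_option linter.unusedSectionVars false

namespace Cfsg.Agent.XS

open Cfsg Cfsg.Geo Cfsg.Agent.H98 Cfsg.Agent.H99 Matrix
open Cfsg.Agent.N9 (pm dg On pm_apply dg_apply coe_dg pm_dg conj_pm mul_pm_apply pm_mul_apply dg_const)

variable {F : Type*} [Field F] [Fintype F] {ι : Type} [Fintype ι] [DecidableEq ι] {p : ℕ} {ζ : Fˣ}
  {w g : GL I F} {G : Subgroup (GL I F)} {e : ι → I} {v : GL ι F} {Γ K Q P : Subgroup (GL ι F)}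

/-- an involution whose fixed points on a group of odd order are central makes it abelian modulo the centre -/
theorem fin_comm {X : Type*} [Group X] {N Z : Subgroup X} (ho : Odd (Nat.card N)) {j : X} (j2 : j * j = 1)
    (hj : ∀ n ∈ N, j * n * j⁻¹ ∈ N) (hZ : ∀ z ∈ Z, ∀ x, z * x = x * z)
    (hc : ∀ n ∈ N, n * j = j * n → n ∈ Z) {a b : X} (ha : a ∈ N) (hb : b ∈ N) : a * b * a⁻¹ * b⁻¹ ∈ Z := by
  have ji : j⁻¹ = j := inv_eq_of_mul_eq_one_right j2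
  have key : ∀ n ∈ N, j * n * j⁻¹ * n ∈ Z := by
    intro n hn
    obtain ⟨d, hd⟩ : ∃ d, d = n⁻¹ * (j * n * j⁻¹) := ⟨_, rfl⟩
    have dN : d ∈ N := hd ▸ mul_mem (inv_mem hn) (hj n hn)
    have jd : j * d * j⁻¹ = d⁻¹ := by
      have : j * d * j⁻¹ = j * n⁻¹ * j⁻¹ * (j * j * n * (j * j)⁻¹) := by rw [hd]; group
      rw [this, j2, hd]; group
    obtain ⟨k, hk⟩ := ho
    have d1 : d ^ (2 * k + 1) = 1 := by
      rw [← hk]
      exact congrArg Subtype.val (pow_card_eq_one' (G := N) (x := ⟨d, dN⟩))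
    obtain ⟨m, hm⟩ : ∃ m, m = d ^ (k + 1) := ⟨_, rfl⟩
    have mm : m * m = d := by
      rw [hm, ← pow_add, show k + 1 + (k + 1) = 2 * k + 1 + 1 by ring, pow_succ, d1, one_mul]
    have jm : j * m * j⁻¹ = m⁻¹ := by rw [hm, ← conj_pow, jd, inv_pow]
    have jn : j * n * j⁻¹ = n * m * m := by rw [mul_assoc n, mm, hd]; group
    have h1 : n * m ∈ Z := by
      refine hc _ (mul_mem hn (hm ▸ pow_mem dN _)) (mul_inv_eq_iff_eq_mul.1 ?_).symm
      have : j * (n * m) * j⁻¹ = j * n * j⁻¹ * (j * m * j⁻¹) := by group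
      rw [this, jn, jm]; group
    have h2 : m * n = n * m := by
      have := hZ _ h1 n
      rw [mul_assoc] at this
      exact mul_left_cancel this
    rw [jn, mul_assoc, h2]
    exact mul_mem h1 h1
  have h1 := key _ (inv_mem ha)
  have h2 := key _ (inv_mem hb)
  have h3 := key _ (inv_mem (mul_mem hb ha))
  -- `j a⁻¹ j⁻¹ = z1 a`, `j b⁻¹ j⁻¹ = z2 b`, `j a⁻¹ b⁻¹ j⁻¹ = z3 b a`
  obtain ⟨z1, e1⟩ : ∃ z, z = j * a⁻¹ * j⁻¹ * a⁻¹ := ⟨_, rfl⟩
  obtain ⟨z2, e2⟩ : ∃ z, z = j * b⁻¹ * j⁻¹ * b⁻¹ := ⟨_, rfl⟩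
  obtain ⟨z3, e3⟩ : ∃ z, z = j * (b * a)⁻¹ * j⁻¹ * (b * a)⁻¹ := ⟨_, rfl⟩
  rw [← e1] at h1
  rw [← e2] at h2
  rw [← e3] at h3
  have e4 : z1 * (a * z2) * b = z3 * (b * a) := by rw [e1, e2, e3]; group
  rw [← hZ z2 h2 a] at e4
  have : a * b * a⁻¹ * b⁻¹ = (z1 * z2)⁻¹ * z3 := by
    calc _ = (z1 * z2)⁻¹ * (z1 * (z2 * a) * b) * (b * a)⁻¹ := by group
      _ = _ := by rw [e4]; group
  rw [this]
  exact mul_mem (inv_mem (mul_mem h1 h2)) h3

theorem St.le_NN (h : St p ζ w G) : G ≤ NN ζ := by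
  classical
  have : Fact (Nat.Prime 2) := ⟨Nat.prime_two⟩
  have j1 : jj F ≠ 1 := fun e => jj_notMem (e ▸ one_mem _ : jj F ∈ scalars I F)
  obtain ⟨N, hN, ho, k⟩ := H42.zstar (z := (⟨jj F, h.j⟩ : G))
    ⟨by rw [← Subgroup.orderOf_coe]; exact orderOf_eq_prime (by rw [pow_two]; exact jj_jj) j1,
    fun g c => Subtype.ext (mul_inv_eq_iff_eq_mul.2 (h.iso g.2 (congrArg Subtype.val c.eq).symm))⟩
  have hc : Odd (Nat.card (N.map G.subtype)) := by rwa [Subgroup.card_subtype]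
  have cj : ∀ g ∈ G, ∀ n ∈ N.map G.subtype, g * n * g⁻¹ ∈ N.map G.subtype := by
    rintro g hg _ ⟨n, hn, rfl⟩
    exact ⟨_, hN.conj_mem n hn ⟨g, hg⟩, rfl⟩
  have k' : ∀ g ∈ G, jj F * g * (jj F)⁻¹ * g⁻¹ ∈ N.map G.subtype := fun g hg => ⟨_, k ⟨g, hg⟩, rfl⟩
  have hle : N.map G.subtype ≤ G := Subgroup.map_subtype_le _
  generalize N.map G.subtype = M at hc cj k' hle
  have hZn : (scalars I F).Normal := ⟨fun z hz x => by rwa [← scalars_comm hz, mul_inv_cancel_right]⟩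
  have cen : ∀ n ∈ M, n * jj F = jj F * n → n ∈ scalars I F := fun n hn c => by
    refine h.odd_cent (O := M ⊔ scalars I F) le_sup_right (sup_le hle h.sc) ?_ ?_
      (Subgroup.mem_sup_left hn) c
    · intro g hg y hy
      obtain ⟨m, hm, z, hz, rfl⟩ := Subgroup.mem_sup_of_normal_right.1 hy
      have : g * (m * z) * g⁻¹ = g * m * g⁻¹ * (g * z * g⁻¹) := by group
      rw [this]
      exact mul_mem (Subgroup.mem_sup_left (cj g hg m hm)) (Subgroup.mem_sup_right (hZn.conj_mem z hz g))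
    · rw [Subgroup.relIndex_sup_right]
      exact hc.of_dvd_nat (Subgroup.relIndex_dvd_card _ _)
  have com := fun {a b : GL I F} (ha : a ∈ M) (hb : b ∈ M) =>
    fin_comm hc jj_jj (cj _ h.j) (fun z hz x => scalars_comm hz x) cen ha hb
  have mem : ∀ y ∈ G, y ^ 7 = 1 → jj F * y * (jj F)⁻¹ = y⁻¹ → y ∈ M := fun y hy y11 e => by
    have h1 := k' y hy
    rw [e] at h1
    have : y = (y⁻¹ * y⁻¹) ^ 3 * y ^ 7 := by group
    rw [this, y11, mul_one]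
    exact pow_mem h1 _
  have xM := mem _ h.x (h.ad_pow7 _) h.toFe.j_x
  have sM := mem _ h.s sh_pow7 j_sh
  intro g hg
  exact mem_NN (h.toFe.mem_RS_of_comm (com (cj g hg _ xM) xM) (com (cj g hg _ xM) sM))
    (h.toFe.mem_RS_of_comm (com (cj g hg _ sM) xM) (com (cj g hg _ sM) sM))

end Cfsg.Agent.XS
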